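import Cfsg.Agent.H700.PwB.CoTwoPP
import Cfsg.Agent.H633.Ore.Co2Ore
import Cfsg.Agent.H705.OreB.Prime
import Cfsg.Agent.H570.Ore.RowB
import Cfsg.Agent.H844.Ore.BFrame
import Cfsg.Agent.H123.Cls.FiOre

/-!
# The Baby Monster: every element is a product of two squares (helper495, for S2453)

* `p2323` : every `l ≠ 1` of `Co₂` is a product of two elements of order 23 (the table of helper700, the cover of
  helper633);
* `of_le` : `|C(g)| ≤ 7700000000` (the sieve at 31 of helper570);
* `fi_elt` : the elements `g` with `g ^ (o/3)` of type 3A (frame of helper480, helper844);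
* `sq_b` : the row.
-/

set_option autoImplicit false

universe u

namespace Cfsg.Agent.H495.Sq.BabyFin

open Cfsg Cfsg.Agent Cfsg.Agent.H134.Sq
open Cfsg.Agent.H715.Mon.Grp (SThree)
open Cfsg.Agent.H480.Ore
open Cfsg.Agent.H844.Ore.BFrame (card_cent_le_pow cent_inv fi_order fi_no_cube exists_two_three)
open Subgroup (centralizer mem_centralizer_singleton_iff center)

section CoTwo

open Cfsg.Agent.H633.Ore Cfsg.Agent.H633.Ore.Co2

theorem hG (c : ℕ) (hc : c < 3) : M.Rp (nthL H700.PwB.CoTwo.Gm c) (tt c) := by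
  have h1 : nthL H700.PwB.CoTwo.Gm c = GG c := by
    rcases c with _ | _ | _ | c
    · decide +kernel
    · decide +kernel
    · decide +kernel
    · omega
  rw [h1]
  exact rpG c

/-- **Every nontrivial element of `Co₂` is a product of two elements of order 23.** -/
theorem p2323 : H700.PwB.P2323 := fun l hl => by
  refine H700.PwB.CoTwo.pp_all M (tt := tt) tt_sq rfl hG (y := eY ⟨0, by norm_num⟩) ?_ (fun g => ?_) hl
  · show ent 22 _ (idx _) = 1
    rw [idx, Equiv.symm_apply_apply]
    exact ent_zero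
  · obtain ⟨w, hw, h⟩ := cover g
    rw [reps_cw] at hw
    exact ⟨w, hw, h⟩

end CoTwo

variable {L : Type u} [Group L]

theorem isP_two (h : Spor.IsoB L) {g : L} (hg : ∃ k : ℕ, orderOf g = 2 ^ k) : IsP 2 g := by
  obtain ⟨a, b, e, h1, h2⟩ := H700.PwB.two_B h p2323 hg
  exact isP_of_mul e (by rw [h1]; norm_num) (by rw [h2]; norm_num)

section sieve

open Cfsg.Agent.BabyM Cfsg.Agent.BabyM.Model Cfsg.Agent.BabyU.ClosModel Cfsg.Agent.BabyU.ClosLane

/-- **The elements with small centralizers.** -/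
theorem of_le (h3 : SThree.{0}) (h : Spor.IsoB L) {g : L}
    (hg : Nat.card ↥(centralizer ({g} : Set L)) ≤ 7700000000) : IsP 2 g := by
  have := H570.Ore.RowB.simple
  obtain ⟨f⟩ := KFacts.Baby.RowB.exists_iso h
  have D := H570.Ore.RowB.dt h3
  obtain ⟨x31, hx31, hc31⟩ := D.x31
  have hcg : Nat.card ↥(centralizer ({f.symm g} : Set Inst.M.G)) ≤ 7700000000 := by
    have h1 : (centralizer ({f.symm g} : Set Inst.M.G)).map f.toMonoidHom =
        centralizer ({g} : Set L) := by
      ext y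
      rw [Subgroup.mem_map, mem_centralizer_singleton_iff]
      constructor
      · rintro ⟨x, hx, rfl⟩
        rw [mem_centralizer_singleton_iff] at hx
        show f x * g = g * f x
        have h2 := congrArg f hx
        rwa [map_mul, map_mul, f.apply_symm_apply] at h2
      · intro hy
        refine ⟨f.symm y, mem_centralizer_singleton_iff.2 ?_, f.apply_symm_apply y⟩
        rw [← map_mul, hy, map_mul]
    rw [Nat.card_congr ((centralizer ({f.symm g} : Set Inst.M.G)).equivMapOfInjective f.toMonoidHom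
      f.injective).toEquiv, h1]
    exact hg
  have h1 : IsP 2 (f.symm g) := by
    have h2 := H65.Ore.prd_all D.nonab (by norm_num : Nat.Prime 31) D.card hx31 hc31 15 2 143 (by decide +kernel)
      (DN := 364344) (DX := 2337075) (c := 7700000000)
      (fun χ hχ h => (H570.Ore.Abs.deg D χ hχ).1 (H570.Ore.Num.r2_spec.1 h))
      (fun χ hχ h => (H570.Ore.Abs.deg D χ hχ).2 (H570.Ore.Num.r2_spec.1 h))
      (by norm_num) (by norm_num) hx31 hcg
    exact isP_of_prd h2 (by rw [hx31]; norm_num) (by rw [hx31]; norm_num)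
  have h2 := h1.map f.toMonoidHom
  change IsP 2 (f (f.symm g)) at h2
  rwa [f.apply_symm_apply] at h2

end sieve

/-- **3A** : `u s`, `u` a 2-element -/
theorem frame_mul [Finite L] {s : L} (D : FiFrame s) (hs : orderOf s = 3) {u : L} {n : ℕ} (hn : u ^ 2 ^ n = 1)
    (hus : u * s = s * u) : IsP 2 (u * s) ∨ Nat.card ↥(centralizer ({u * s} : Set L)) ≤ 7357464576 := by
  by_cases huS : u ∈ D.S
  · left
    obtain ⟨f, rfl⟩ := D.two_mem hs hn huS
    obtain ⟨a, b, e⟩ := H123.Cls.FiDat.sq_Fi22 f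
    refine isP_mul_right (a := D.j a) (b := D.j b) ?_ (D.comm a) (D.comm b) ?_
    · rw [e, map_mul, map_pow, map_pow]
    · rw [hs]; norm_num
  · right
    exact D.card_le hs hn hus huS

theorem fi_mul {s : L} (hs : H844.Ore.FiB s) {u : L} {n : ℕ} (hn : u ^ 2 ^ n = 1) (hus : u * s = s * u) :
    IsP 2 (u * s) ∨ Nat.card ↥(centralizer ({u * s} : Set L)) ≤ 7700000000 := by
  obtain ⟨t₀, hA, h2, e, x, hx, rfl, hf⟩ := hs
  have := Cfsg.Agent.LThreeMB.Row.finite_model
  have : Finite L := Finite.of_equiv _ e.toEquiv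
  obtain ⟨F⟩ := exists_fiFrame hA h2 e hx hf
  rcases frame_mul F (order_s hA h2 e hx hf) hn hus with h1 | h1
  · exact Or.inl h1
  · exact Or.inr (h1.trans (by norm_num))

/-- `6 ∣ orderOf g`, the element `g ^ (orderOf g / 3)` of type 3A, `g` a `{2, 3}`-element -/
theorem fi_elt [Finite L] {g : L} (a b : ℕ) (ho : orderOf g = 2 ^ a * 3 ^ b)
    (hs : H844.Ore.FiB (g ^ (orderOf g / 3))) : IsP 2 g ∨ Nat.card ↥(centralizer ({g} : Set L)) ≤ 7700000000 := by
  obtain ⟨s, hs'⟩ : ∃ s, s = g ^ (orderOf g / 3) := ⟨_, rfl⟩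
  rw [← hs'] at hs
  have hos := fi_order hs
  -- `b = 1`
  have hb : b = 1 := by
    rcases b with _ | _ | b
    · exfalso
      rw [pow_zero, mul_one] at ho
      have h1 : s ^ 2 ^ a = 1 := by rw [hs', ← pow_mul, mul_comm, pow_mul, ← ho, pow_orderOf_eq_one, one_pow]
      have h2 := orderOf_dvd_of_pow_eq_one h1
      rw [hos] at h2
      have := Nat.prime_three.dvd_of_dvd_pow h2
      revert this
      decide
    · rfl
    · exfalso
      refine fi_no_cube hs (g ^ (2 ^ a * 3 ^ b)) ?_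
      rw [hs', ← pow_mul, ho]
      congr 1
      have : 2 ^ a * 3 ^ (b + 1 + 1) = 3 * (2 ^ a * 3 ^ b * 3) := by ring
      rw [this, Nat.mul_div_cancel_left _ (by norm_num : 0 < 3)]
  subst hb
  rw [pow_one] at ho
  have hs2 : s = g ^ 2 ^ a := by
    rw [hs', ho, Nat.mul_div_cancel _ (by norm_num : 0 < 3)]
  -- the decomposition
  have hcop : Nat.Coprime (2 ^ a) 3 := Nat.Coprime.pow_left _ (by norm_num)
  have hbez : ((2 ^ a : ℕ) : ℤ) * Nat.gcdA (2 ^ a) 3 + ((3 : ℕ) : ℤ) * Nat.gcdB (2 ^ a) 3 = 1 := by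
    have := Nat.gcd_eq_gcd_ab (2 ^ a) 3
    rw [hcop] at this
    exact_mod_cast this.symm
  set m := Nat.gcdA (2 ^ a) 3 with hm
  set n := Nat.gcdB (2 ^ a) 3 with hn
  have hg : g = g ^ (((3 : ℕ) : ℤ) * n) * s ^ m := by
    have e1 : s ^ m = g ^ (((2 ^ a : ℕ) : ℤ) * m) := by rw [hs2, ← zpow_natCast, ← zpow_mul]
    rw [e1, ← zpow_add, add_comm, hbez, zpow_one]
  obtain ⟨u, hu⟩ : ∃ u, u = g ^ (((3 : ℕ) : ℤ) * n) := ⟨_, rfl⟩
  rw [← hu] at hg
  have hu1 : u ^ 2 ^ a = 1 := by
    rw [hu, ← zpow_natCast, ← zpow_mul]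
    have e1 : ((3 : ℕ) : ℤ) * n * ((2 ^ a : ℕ) : ℤ) = ((orderOf g : ℕ) : ℤ) * n := by
      rw [ho]
      push_cast
      ring
    rw [e1, zpow_mul, zpow_natCast, pow_orderOf_eq_one, one_zpow]
  have hus : u * s = s * u := by
    rw [hu, hs2]
    exact ((Commute.refl g).zpow_left _).pow_right _
  -- `s ^ m`
  have hcase : s ^ m = s ∨ s ^ m = s⁻¹ ∨ s ^ m = 1 := by
    have h1 : s ^ m = s ^ (m % 3) := by
      rw [← zpow_mod_orderOf, hos]
      rfl
    have h2 : m % 3 = 0 ∨ m % 3 = 1 ∨ m % 3 = 2 := by omega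
    have h3 : s ^ (3 : ℤ) = 1 := by
      have := pow_orderOf_eq_one s
      rw [hos] at this
      exact_mod_cast this
    rcases h2 with h2 | h2 | h2
    · right; right
      rw [h1, h2, zpow_zero]
    · left
      rw [h1, h2, zpow_one]
    · right; left
      rw [h1, h2]
      apply eq_inv_of_mul_eq_one_left
      rw [← h3]
      group
  rcases hcase with h1 | h1 | h1
  · rw [h1] at hg
    rw [hg]
    exact fi_mul hs hu1 hus
  · rw [h1] at hg
    have hg' : g⁻¹ = u⁻¹ * s := by
      rw [hg, mul_inv_rev, inv_inv]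
      exact (show Commute s u from hus.symm).inv_right
    rcases fi_mul hs (u := u⁻¹) (n := a) (by rw [inv_pow, hu1, inv_one])
      (show Commute u s from hus).inv_left with h2 | h2
    · left
      rw [← hg'] at h2
      have := h2.inv
      rwa [inv_inv] at this
    · right
      rw [← hg', cent_inv] at h2
      exact h2
  · exfalso
    rw [h1, mul_one] at hg
    have h2 : orderOf g ∣ 2 ^ a := by
      rw [hg]
      exact orderOf_dvd_of_pow_eq_one hu1
    rw [ho] at h2
    have h3 := Nat.le_of_dvd (by positivity) h2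
    have h4 : 0 < 2 ^ a := by positivity
    omega

/-- **The Baby Monster: every element is a product of two squares.** -/
theorem sq_b (B : H940.Eng.Base) (h : Spor.IsoB L) : AllP 2 L := by
  have hfin : Finite L := Nat.finite_of_card_ne_zero (by rw [NotCT.Orders.b h]; norm_num)
  have h3 : SThree.{0} := Cfsg.Agent.H715.Mon.Grp.sThree B
  have hT : ∀ g : L, Nat.card ↥(centralizer ({g} : Set L)) ≤ 7700000000 → IsP 2 g := fun g hg => of_le h3 h hg
  intro g
  have h0 : orderOf g ≠ 0 := (orderOf_pos g).ne'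
  by_cases hp : ∃ p, p.Prime ∧ p ∣ orderOf g ∧ 5 ≤ p
  · obtain ⟨p, hp, hpg, hp5⟩ := hp
    have ho : orderOf (g ^ (orderOf g / p)) = p := orderOf_pow_orderOf_div h0 hpg
    exact hT g ((card_cent_le_pow g _).trans (H705.OreB.Prime.prime_le B h _ (by rw [ho]; exact hp)
      (by rw [ho]; exact hp5)))
  push Not at hp
  obtain ⟨a, b, hab⟩ := exists_two_three h0 hp
  rcases Nat.eq_zero_or_pos a with rfl | ha
  · rw [pow_zero, one_mul] at hab
    exact isP_of_coprime (by rw [hab]; exact Nat.Coprime.pow_left _ (by norm_num))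
  rcases Nat.eq_zero_or_pos b with rfl | hb
  · rw [pow_zero, mul_one] at hab
    exact isP_two h ⟨a, hab⟩
  have h6 : 6 ∣ orderOf g := by
    rw [hab, show (6 : ℕ) = 2 * 3 from rfl]
    exact mul_dvd_mul (dvd_pow_self 2 ha.ne') (dvd_pow_self 3 hb.ne')
  rcases H844.Ore.BThree.cent_six h h6 with h1 | h1
  · exact hT g (h1.trans (by norm_num))
  · rcases fi_elt a b hab h1 with h2 | h2
    · exact h2
    · exact hT g h2

end Cfsg.Agent.H495.Sq.BabyFin
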