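import Cfsg.Agent.H293.PwF.Final
import Cfsg.Agent.H822.Ore.Fi23Ore
import Cfsg.Agent.H134.Sq.Base

/-!
# `Fi23`: every element is a product of two squares (helper495, for S2453)

The frame of helper822 (`frame'`), the sieve at 23 (helper293, degrees helper935), the 2-elements (helper822).
-/

set_option autoImplicit false

namespace Cfsg.Agent.H495.Sq.Fi23Fin

open Subgroup Cfsg Cfsg.Agent.H134.Sq
open Cfsg.Spor (Fi23)

theorem sq_model : AllP 2 Fi23 := by
  have hfin : Finite Fi23 := Cfsg.Agent.H199.NSmFi23.finite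
  refine Cfsg.Agent.H822.Ore.Fi23Ore.frame' (fun g hg => ?_) (fun g n hg => ?_) (fun g hg => ?_)
  · obtain ⟨a, b, e, ha, hb⟩ := Cfsg.Agent.H293.PwF.pr_cent (n := 2) (hg.trans (by norm_num)) (by norm_num)
    exact isP_of_mul e ha hb
  · obtain ⟨x, y, c, hx, hy, e⟩ := Cfsg.Agent.H822.Ore.Fi23Four.two_prd hg
    have h23 : ∀ z : Fi23, z ^ 23 = 1 → (orderOf z).Coprime 2 := fun z hz =>
      Nat.Coprime.coprime_dvd_left (orderOf_dvd_of_pow_eq_one hz) (by norm_num)
    refine isP_of_mul e (h23 x hx) (h23 y ?_)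
    rw [hy, conj_pow, inv_pow, hx, inv_one, mul_one, mul_inv_cancel]
  · exact isP_of_coprime (Nat.coprime_two_right.2 hg)

/-- **`Fi23`: every element is a product of two squares** -/
theorem sq_fi23 {S : Type*} [Group S] (h : Spor.IsoFi23 S) : AllP 2 S := by
  obtain ⟨e⟩ := h
  exact AllP.congr e.symm sq_model

end Cfsg.Agent.H495.Sq.Fi23Fin
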