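import Cfsg.Agent.H495.Sq.MExt
import Cfsg.Agent.H854.Ore.Fi24Two
import Cfsg.Agent.H48.OreFi.Frame

/-!
# `Fi24'`: products of two squares (S2453) (helper495)

Everything modulo the open parts of the row of S2443 (degree bounds, `h9`, `h6`): `sq_model_of`, `sq_of`.
-/

set_option autoImplicit false
set_option maxRecDepth 100000

namespace Cfsg.Agent.H495.Sq.Fi24

open Cfsg Cfsg.Agent.Characters Subgroup
open Cfsg.Agent.H134.Sq

/-- **the sieve**, product form: `g` is a product of two elements of order 29 -/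
theorem prd_of_cent
    (hDN : ∀ χ : IrrCharacter Spor.Fi24', (χ : Spor.Fi24' → ℂ) ≠ 1 →
      (charDegree (χ : Spor.Fi24' → ℂ) % 29 = 1 ∨ charDegree (χ : Spor.Fi24' → ℂ) % 29 = 28) →
        57477 ≤ charDegree (χ : Spor.Fi24' → ℂ))
    (hDX : ∀ χ : IrrCharacter Spor.Fi24', (χ : Spor.Fi24' → ℂ) ≠ 1 →
      (charDegree (χ : Spor.Fi24' → ℂ) % 29 = 14 ∨ charDegree (χ : Spor.Fi24' → ℂ) % 29 = 15) →
        113000 ≤ charDegree (χ : Spor.Fi24' → ℂ))
    {g : Spor.Fi24'} (hc : Nat.card (centralizer ({g} : Set Spor.Fi24')) ≤ 78382080) :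
    ∃ x y : Spor.Fi24', orderOf x = 29 ∧ orderOf y = 29 ∧ g = x * y := by
  have := H48.OreFi.finite'
  have : IsSimpleGroup Spor.Fi24' := Cfsg.Agent.S1698.result.1
  obtain ⟨x, -, hx, hC, -⟩ := Cfsg.Agent.H30.IMFi24.exists_x
  have hG : ¬ IsMulCommutative Spor.Fi24' := by
    intro h
    have h1 : centralizer ({x} : Set Spor.Fi24') = ⊤ := by
      rw [eq_top_iff]
      intro y _
      rw [mem_centralizer_singleton_iff]
      exact h.is_comm.comm y x
    rw [h1, Subgroup.card_top, Cfsg.Agent.R08.FiTwentyFour.card_commutator] at hC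
    omega
  obtain ⟨a, b, h⟩ := H65.Ore.prd_all (p := 29) hG (by norm_num) Cfsg.Agent.R08.FiTwentyFour.card_commutator hx hC 14 2 141
    (by decide +kernel) (DN := 57477) (DX := 113000) hDN hDX (by norm_num) (by norm_num) hx hc
  have key : ∀ z w : Spor.Fi24', orderOf (z * w * z⁻¹) = orderOf w := by
    intro z w
    rw [← MulAut.conj_apply, MulEquiv.orderOf_eq]
  exact ⟨_, _, by rw [key, hx], by rw [key, hx], h⟩

/-- every 2-element is a product of two elements of order 23 -/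
theorem two_prod {g : Spor.Fi24'} {n : ℕ} (hg : g ^ 2 ^ n = 1) :
    ∃ x y : Spor.Fi24', x ^ 23 = 1 ∧ y ^ 23 = 1 ∧ g = x * y := by
  have := H854.Ore.Fi24.finite'
  exact mext_two_prod H854.Ore.Fi24.ext hg

theorem two_pr {m : ℕ} (hm : ¬ 23 ∣ m) {g : Spor.Fi24'} {n : ℕ} (hg : g ^ 2 ^ n = 1) : H78.Pw.Pr m g := by
  have := H854.Ore.Fi24.finite'
  exact mext_two_pr H854.Ore.Fi24.ext hm hg

theorem sq_model_of
    (hDN : ∀ χ : IrrCharacter Spor.Fi24', (χ : Spor.Fi24' → ℂ) ≠ 1 →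
      (charDegree (χ : Spor.Fi24' → ℂ) % 29 = 1 ∨ charDegree (χ : Spor.Fi24' → ℂ) % 29 = 28) →
        57477 ≤ charDegree (χ : Spor.Fi24' → ℂ))
    (hDX : ∀ χ : IrrCharacter Spor.Fi24', (χ : Spor.Fi24' → ℂ) ≠ 1 →
      (charDegree (χ : Spor.Fi24' → ℂ) % 29 = 14 ∨ charDegree (χ : Spor.Fi24' → ℂ) % 29 = 15) →
        113000 ≤ charDegree (χ : Spor.Fi24' → ℂ))
    (h9 : ∀ g : Spor.Fi24', orderOf g = 9 → Nat.card (centralizer ({g} : Set Spor.Fi24')) ≤ 78382080)
    (h6 : ∀ z s : Spor.Fi24', orderOf z = 2 → orderOf s = 3 → Commute z s →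
      Nat.card (centralizer ({z} : Set Spor.Fi24') ⊓ centralizer ({s} : Set Spor.Fi24') : Subgroup Spor.Fi24') ≤
        78382080) : AllP 2 Spor.Fi24' := by
  intro g
  refine H48.OreFi.cases (P := fun g => IsP 2 g) ?_ ?_ ?_ h9 h6 g
  · intro g hg
    obtain ⟨x, y, hx, hy, e⟩ := prd_of_cent hDN hDX hg
    exact isP_two_of_mul e (by rw [hx]; decide) (by rw [hy]; decide)
  · intro g n hg
    exact isP_of_pr (two_pr (by norm_num) hg)
  · intro g hg
    exact isP_two_of_odd (Odd.of_dvd_nat (by decide : Odd 3) (orderOf_dvd_of_pow_eq_one hg))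

end Cfsg.Agent.H495.Sq.Fi24
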