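import Cfsg.Agent.H854.Ore.Ext
import Cfsg.Agent.H134.Sq.Tools

/-!
# Groups with a subgroup `2^11 . M24` of odd index: products of two elements of order 23 (S2453, S2465) (helper495)

* `mext_two_prod` : every 2-element is `x y` with `x ^ 23 = y ^ 23 = 1` (in fact `y` is conjugate to `x⁻¹`);
* `mext_two_pr` : the form `H78.Pw.Pr n`, `n` prime to `23`; `mext_two_sq` : the form `H134.Sq.IsP 2`.
-/

set_option autoImplicit false

open Cfsg Subgroup

namespace Cfsg.Agent.H495.Sq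

open Cfsg.Agent.H854.Ore

variable {G : Type*} [Group G] [Finite G] {A N : Subgroup G} {π : N →* M24}

/-- an element above an element of order 23 has order 23 -/
theorem mext_pow23 (H : MExt A N π) {s : N} (hs : (π s) ^ 23 = 1) (hs1 : π s ≠ 1) : (s : G) ^ 23 = 1 := by
  have h1 : π (s ^ 23) = 1 := by rw [map_pow, hs]
  have h2 : (s : G) ^ 23 ∈ A := by
    have := (H.ker _).1 h1
    rwa [Subgroup.coe_pow] at this
  have h3 := H.sq _ h2
  have h4 : (s ^ 2) ^ 23 = 1 := by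
    apply Subtype.ext
    rw [← pow_mul, mul_comm, pow_mul, pow_two, Subgroup.coe_mul, Subgroup.coe_pow]
    exact h3
  have h5 : π (s ^ 2) ≠ 1 := by
    intro h
    apply hs1
    rw [map_pow] at h
    calc π s = (π s) ^ 23 * ((π s) ^ 2) ^ (-11 : ℤ) := by
          rw [← zpow_natCast, ← zpow_natCast, ← zpow_mul, ← zpow_add]; norm_num
      _ = 1 := by rw [hs, h, one_zpow, mul_one]
  refine H.fix h4 h5 h2 ?_
  rw [Subgroup.coe_pow]
  exact ((Commute.refl (s : G)).pow_pow 2 23).eq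

/-- **every 2-element is a product of two elements of order 23** -/
theorem mext_two_prod (H : MExt A N π) {g : G} {n : ℕ} (hg : g ^ 2 ^ n = 1) :
    ∃ x y : G, x ^ 23 = 1 ∧ y ^ 23 = 1 ∧ g = x * y := by
  obtain ⟨h, c, rfl, hu⟩ := H.into hg
  obtain ⟨a, b, hab, ha⟩ := H831.Ore.two_M24 (u := (π h)⁻¹) (n := n) (by rw [inv_pow, hu, inv_one])
  have hab' : π h = b * a * b⁻¹ * a⁻¹ := by
    rw [← inv_inv (π h), hab]; group
  obtain ⟨a', rfl⟩ := H.surj a
  obtain ⟨b', rfl⟩ := H.surj b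
  have ha23 : (π a') ^ 23 = 1 := by rw [← ha, pow_orderOf_eq_one]
  have ha1 : π a' ≠ 1 := by
    intro h2
    rw [h2, orderOf_one] at ha
    omega
  have hs : (π (b' * a' * b'⁻¹)) ^ 23 = 1 := by
    rw [map_mul, map_mul, map_inv, conj_pow, ha23]; group
  have hs1 : π (b' * a' * b'⁻¹) ≠ 1 := by
    intro h1
    apply ha1
    have h3 : π a' = (π b')⁻¹ * π (b' * a' * b'⁻¹) * π b' := by rw [map_mul, map_mul, map_inv]; group
    rw [h3, h1]; group
  have hv : (h : G) * ((b' * a' * b'⁻¹ * a'⁻¹ : N) : G)⁻¹ ∈ A := by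
    rw [← Subgroup.coe_inv, ← Subgroup.coe_mul, ← H.ker, map_mul, map_inv, hab']
    simp only [map_mul, map_inv]
    group
  obtain ⟨x, hx, hxv⟩ := H.fill hs hs1 hv
  have key : (h : G) = (x * b') * a' * (x * b')⁻¹ * (a' : G)⁻¹ := by
    calc (h : G) = (h : G) * ((b' * a' * b'⁻¹ * a'⁻¹ : N) : G)⁻¹ * ((b' * a' * b'⁻¹ * a'⁻¹ : N) : G) := by group
      _ = x * (((b' * a' * b'⁻¹ : N) : G) * x⁻¹ * ((b' * a' * b'⁻¹ : N) : G)⁻¹) * ((b' * a' * b'⁻¹ * a'⁻¹ : N) : G) := by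
        rw [hxv]
      _ = _ := by push_cast; group
  have h23 := mext_pow23 H ha23 ha1
  refine ⟨c * ((x * b') * a' * (x * b')⁻¹) * c⁻¹, c * (a' : G)⁻¹ * c⁻¹, ?_, ?_, ?_⟩
  · rw [conj_pow, conj_pow, h23]; group
  · rw [conj_pow, inv_pow, h23]; group
  · rw [key]; group

omit [Finite G] in
theorem orderOf_of_pow {x : G} (h : x ^ 23 = 1) {n : ℕ} (hn : ¬ 23 ∣ n) : (orderOf x).Coprime n :=
  Nat.Coprime.of_dvd_left (orderOf_dvd_of_pow_eq_one h) ((Nat.Prime.coprime_iff_not_dvd (by norm_num)).2 hn)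

/-- the form of S2465 -/
theorem mext_two_pr (H : MExt A N π) {m : ℕ} (hm : ¬ 23 ∣ m) {g : G} {n : ℕ} (hg : g ^ 2 ^ n = 1) : H78.Pw.Pr m g := by
  obtain ⟨x, y, hx, hy, e⟩ := mext_two_prod H hg
  exact ⟨x, y, e, orderOf_of_pow hx hm, orderOf_of_pow hy hm⟩

/-- the form of S2453 -/
theorem mext_two_sq (H : MExt A N π) {g : G} {n : ℕ} (hg : g ^ 2 ^ n = 1) : H134.Sq.IsP 2 g :=
  H134.Sq.isP_of_pr (mext_two_pr H (by norm_num) hg)

end Cfsg.Agent.H495.Sq
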